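import Groth.Agent.H83.CohDerived.MinusFun
import Groth.Agent.Lib.BettiExact.QCohInc
import Groth.Agent.Lib.CohDelta.FPApprox.Sections
import Groth.Agent.Lib.Modules.AffineSections
import Groth.Agent.Lib.KRes.CohP

/-!
# Coherent modules inside quasi-coherent modules on a Noetherian scheme
-/

set_option autoImplicit false
set_option linter.style.haveILetI false
set_option linter.unusedSectionVars false

universe u

open CategoryTheory CategoryTheory.Limits AlgebraicGeometry
open scoped ZeroObject

namespace Groth.Agent.H83.CohDerived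

open Groth.Agent.Lib

/-- Quasi-coherence. -/
abbrev qcP (X : Scheme.{u}) : ObjectProperty X.Modules := fun M => Coh.IsQCoh M

/-- Coherence. -/
abbrev cohP (X : Scheme.{u}) : ObjectProperty X.Modules := fun M => Coh.IsCoh M

/-- Coherent objects among quasi-coherent ones. -/
abbrev cohQ (X : Scheme.{u}) : ObjectProperty (qcP X).FullSubcategory := fun M => Coh.IsCoh M.obj

/-- The inclusion of coherent into quasi-coherent modules. -/
abbrev toQc (X : Scheme.{u}) : (cohP X).FullSubcategory ⥤ (qcP X).FullSubcategory :=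
  ObjectProperty.lift (qcP X) (cohP X).ι (fun M => M.property.1)

variable {X : Scheme.{u}}

lemma isCoh_ext {S : ShortComplex X.Modules} (hS : S.ShortExact) (h₁ : Coh.IsCoh S.X₁)
    (h₃ : Coh.IsCoh S.X₃) : Coh.IsCoh S.X₂ := by
  haveI := h₁.1
  haveI := h₃.1
  haveI := hS.mono_f
  haveI : S.X₂.IsQuasicoherent := QCoh.Closure.isQCoh_of_extension hS
  refine CohBasics.Closure.isCoh_of_finite_sections fun U hU => ?_
  haveI := CohBasics.Closure.finite_sections h₁ hU
  haveI := CohBasics.Closure.finite_sections h₃ hU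
  refine ⟨Submodule.fg_of_fg_map_of_fg_inf_ker (CohBasics.Affine.secₗ S.g U) ?_ ?_⟩
  · have hs : Function.Surjective (CohBasics.Affine.secₗ S.g U) :=
      QCoh.Closure.sections_surjective hS hU
    rw [Submodule.map_top, LinearMap.range_eq_top.2 hs]
    exact Module.Finite.fg_top
  · have h : (⊤ : Submodule Γ(X, U) Γ(S.X₁, U)).map (CohBasics.Affine.secₗ S.f U) =
        LinearMap.ker (CohBasics.Affine.secₗ S.g U) := by
      rw [Submodule.map_top]
      refine le_antisymm ?_ fun x hx => QCoh.Closure.sections_exact hS.exact U x hx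
      rintro _ ⟨y, rfl⟩
      change (S.f ≫ S.g).app U y = 0
      rw [S.zero]
      rfl
    rw [top_inf_eq, ← h]
    exact Module.Finite.fg_top.map _

variable [ObjectProperty.ContainsZero (qcP X)] [ObjectProperty.IsClosedUnderKernels (qcP X)]
  [ObjectProperty.IsClosedUnderCokernels (qcP X)] [ObjectProperty.IsClosedUnderFiniteProducts (qcP X)]

lemma preservesFiniteLimits_ι (X : Scheme.{u}) [ObjectProperty.ContainsZero (qcP X)]
    [ObjectProperty.IsClosedUnderKernels (qcP X)]
    [ObjectProperty.IsClosedUnderCokernels (qcP X)] [ObjectProperty.IsClosedUnderFiniteProducts (qcP X)] :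
    PreservesFiniteLimits (qcP X).ι := by
  haveI := (qcP X).preservesKernels_ι
  exact Functor.preservesFiniteLimits_of_preservesKernels _

lemma preservesFiniteColimits_ι (X : Scheme.{u}) [ObjectProperty.ContainsZero (qcP X)]
    [ObjectProperty.IsClosedUnderKernels (qcP X)]
    [ObjectProperty.IsClosedUnderCokernels (qcP X)] [ObjectProperty.IsClosedUnderFiniteProducts (qcP X)] :
    PreservesFiniteColimits (qcP X).ι := by
  haveI := (qcP X).preservesCokernels_ι
  exact Functor.preservesFiniteColimits_of_preservesCokernels _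

lemma isSerreClass [IsLocallyNoetherian X] : (cohQ X).IsSerreClass := by
  haveI := preservesFiniteLimits_ι X
  haveI := preservesFiniteColimits_ι X
  exact
    { exists_zero := ⟨0, isZero_zero _,
        KRes.CohP.isCoh_of_isZero X ((qcP X).ι.map_isZero (isZero_zero _))⟩
      prop_of_mono := fun {M N} f _ hN => by
        haveI : M.obj.IsQuasicoherent := M.property
        exact CohBasics.Closure.isCoh_of_mono ((qcP X).ι.map f) hN
      prop_of_epi := fun {M N} f _ hM => by
        haveI : N.obj.IsQuasicoherent := N.property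
        exact CohBasics.Closure.isCoh_of_epi ((qcP X).ι.map f) hM
      prop_X₂_of_shortExact := fun {S} hS h₁ h₃ =>
        isCoh_ext (S := S.map (qcP X).ι) (hS.map_of_exact _) h₁ h₃ }

open CohDelta.IdealMul.Sec in
lemma liftable [IsNoetherian X] : SerreSub.Subcomplex.Liftable (cohQ X) := by
  classical
  haveI := preservesFiniteLimits_ι X
  haveI := preservesFiniteColimits_ι X
  intro F Y π hπ hY
  haveI : Epi ((qcP X).ι.map π) := inferInstance
  haveI : F.obj.IsQuasicoherent := F.property
  haveI : Y.obj.IsQuasicoherent := Y.property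
  haveI : ((qcP X).ι.obj F).IsQuasicoherent := F.property
  haveI : ((qcP X).ι.obj Y).IsQuasicoherent := Y.property
  obtain ⟨s, hs⟩ := isCompact_univ.elim_finite_subcover (fun V : X.affineOpens => (V.1 : Set X))
    (fun V => V.1.isOpen) (by
      intro x _
      obtain ⟨W, hW, hx, -⟩ := exists_isAffineOpen_mem_and_subset (TopologicalSpace.Opens.mem_top x)
      exact Set.mem_iUnion.2 ⟨⟨W, hW⟩, hx⟩)
  choose n t ht using fun W : {W // W ∈ s} =>
    @Module.Finite.exists_fin Γ(X, W.1.1) Γ(Y.obj, W.1.1) _ _ _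
      (CohBasics.Closure.finite_sections hY W.1.2)
  have hsurj : ∀ W : {W // W ∈ s}, Function.Surjective (appL ((qcP X).ι.map π) W.1.1) := fun W =>
    CohDelta.FPApprox.Sections.appL_surjective _ W.1.2
  choose a ha using fun (k : Σ W : {W // W ∈ s}, Fin (n W)) => hsurj k.1 (t k.1 k.2)
  obtain ⟨S, i, hi, hq, hf, h⟩ := CohDelta.FPApprox.Sections.exists_ft_sub F.obj
    (fun k : Σ W : {W // W ∈ s}, Fin (n W) => k.1.1) a
  let S' : (qcP X).FullSubcategory := ⟨S, hq⟩
  let i' : S' ⟶ F := ObjectProperty.homMk i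
  haveI : Mono i' := (qcP X).ι.mono_of_mono_map (show Mono i from hi)
  refine ⟨S', i', inferInstance, ⟨hq, hf⟩, ?_⟩
  suffices Epi (i ≫ (qcP X).ι.map π) from
    (qcP X).ι.epi_of_epi_map (show Epi ((qcP X).ι.map (i' ≫ π)) by
      rw [Functor.map_comp]; exact this)
  let p : S ⟶ Y.obj := i ≫ (qcP X).ι.map π
  haveI : S.IsQuasicoherent := hq
  haveI := QCoh.Closure.isQCoh_cokernel p
  refine Preadditive.epi_of_isZero_cokernel p (Modules.AffineSections.isZero_of_sections fun x => ?_)
  obtain ⟨W, hWs, hxW⟩ : ∃ W ∈ s, x ∈ W.1 := by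
    obtain ⟨W, hW⟩ := Set.mem_iUnion.1 (hs (Set.mem_univ x))
    obtain ⟨hWs, hxW⟩ := Set.mem_iUnion.1 hW
    exact ⟨W, hWs, hxW⟩
  refine ⟨W.1, W.2, hxW, subsingleton_of_forall_eq 0 fun c => ?_⟩
  obtain ⟨y, rfl⟩ := CohDelta.FPApprox.Sections.appL_surjective (cokernel.π p) W.2 c
  have hy : y ∈ LinearMap.range (appL p W.1) := by
    have htop : (⊤ : Submodule Γ(X, W.1) Γ(Y.obj, W.1)) ≤ LinearMap.range (appL p W.1) := by
      rw [← ht ⟨W, hWs⟩, Submodule.span_le]
      rintro _ ⟨k, rfl⟩
      obtain ⟨b, hb⟩ := h ⟨⟨W, hWs⟩, k⟩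
      refine ⟨b, ?_⟩
      have e := ha ⟨⟨W, hWs⟩, k⟩
      rw [appL_comp, LinearMap.comp_apply, hb]
      exact e
    exact htop Submodule.mem_top
  obtain ⟨b, rfl⟩ := hy
  rw [← LinearMap.comp_apply, ← appL_comp, cokernel.condition]
  rfl

lemma exists_toQc (Y : (qcP X).FullSubcategory) (hY : cohQ X Y) :
    ∃ M : (cohP X).FullSubcategory, Nonempty ((toQc X).obj M ≅ Y) :=
  ⟨⟨Y.obj, hY⟩, ⟨Iso.refl _⟩⟩

end Groth.Agent.H83.CohDerived
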