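import Groth.Agent.H83.CohDerived.Basic
import Groth.Agent.H83.DQCohEquiv.Noeth

/-!
# Derived categories of coherent modules on a Noetherian scheme
-/

set_option autoImplicit false
set_option linter.style.haveILetI false
set_option linter.unusedSectionVars false

universe u

open CategoryTheory CategoryTheory.Limits AlgebraicGeometry

attribute [local instance] HasDerivedCategory.standard

namespace Groth.Agent.H83.CohDerived

section General

variable {A B C : Type*} [Category A] [Abelian A] [HasDerivedCategory A]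
  [Category B] [Abelian B] [HasDerivedCategory B] [Category C] [Abelian C] [HasDerivedCategory C]

/-- Exact functors commute with homology in the derived categories. -/
lemma exists_homology_iso (F : A ⥤ B) [F.Additive] [PreservesFiniteLimits F]
    [PreservesFiniteColimits F] (K : DerivedCategory A) (i : ℤ) :
    Nonempty ((DerivedCategory.homologyFunctor B i).obj (F.mapDerivedCategory.obj K) ≅
      F.obj ((DerivedCategory.homologyFunctor A i).obj K)) := by
  obtain ⟨E, ⟨e⟩⟩ : ∃ E, Nonempty (DerivedCategory.Q.obj E ≅ K) :=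
    ⟨_, ⟨DerivedCategory.Q.objObjPreimageIso K⟩⟩
  exact ⟨(DerivedCategory.homologyFunctor B i).mapIso
      (F.mapDerivedCategory.mapIso e.symm ≪≫ F.mapDerivedCategoryFactors.app E) ≪≫
    (DerivedCategory.homologyFunctorFactors B i).app _ ≪≫ (E.sc i).mapHomologyIso F ≪≫
    F.mapIso ((DerivedCategory.homologyFunctorFactors A i).app E).symm ≪≫
    F.mapIso ((DerivedCategory.homologyFunctor A i).mapIso e)⟩

variable (F : A ⥤ B) [F.Additive] [PreservesFiniteLimits F] [PreservesFiniteColimits F]
  (G : B ⥤ C) [G.Additive] [PreservesFiniteLimits G] [PreservesFiniteColimits G]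
  (H : A ⥤ C) [H.Additive] [PreservesFiniteLimits H] [PreservesFiniteColimits H]

/-- The derived functor of a composite of exact functors. -/
noncomputable def compD (e : F ⋙ G ≅ H) :
    F.mapDerivedCategory ⋙ G.mapDerivedCategory ≅ H.mapDerivedCategory :=
  let W := HomologicalComplex.quasiIso A (ComplexShape.up ℤ)
  letI : Localization.Lifting DerivedCategory.Q W
      (DerivedCategory.Q ⋙ F.mapDerivedCategory ⋙ G.mapDerivedCategory)
      (F.mapDerivedCategory ⋙ G.mapDerivedCategory) := ⟨Iso.refl _⟩
  letI : Localization.Lifting DerivedCategory.Q W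
      (DerivedCategory.Q ⋙ H.mapDerivedCategory) H.mapDerivedCategory := ⟨Iso.refl _⟩
  let eC : F.mapHomologicalComplex (ComplexShape.up ℤ) ⋙ G.mapHomologicalComplex (ComplexShape.up ℤ) ≅
      H.mapHomologicalComplex (ComplexShape.up ℤ) :=
    NatIso.ofComponents (fun K => HomologicalComplex.Hom.isoOfComponents (fun n => e.app (K.X n))
      (fun a b _ => (e.hom.naturality (K.d a b)).symm))
      (fun φ => by ext n; exact e.hom.naturality (φ.f n))
  Localization.liftNatIso DerivedCategory.Q W _ _ _ _
    ((Functor.associator _ _ _).symm ≪≫ Functor.isoWhiskerRight F.mapDerivedCategoryFactors _ ≪≫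
      Functor.associator _ _ _ ≪≫ Functor.isoWhiskerLeft _ G.mapDerivedCategoryFactors ≪≫
      (Functor.associator _ _ _).symm ≪≫ Functor.isoWhiskerRight eC _ ≪≫
      H.mapDerivedCategoryFactors.symm)

lemma isLE_of_map [F.Full] [F.Faithful] (M : DerivedCategory A) (b : ℤ)
    (h : (F.mapDerivedCategory.obj M).IsLE b) : M.IsLE b :=
  (DerivedCategory.isLE_iff M b).2 fun i hi => IsZero.of_full_of_faithful_of_isZero F _
    (((DerivedCategory.isLE_iff _ b).1 h i hi).of_iso (exists_homology_iso F M i).some.symm)

lemma isGE_of_map [F.Full] [F.Faithful] (M : DerivedCategory A) (a : ℤ)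
    (h : (F.mapDerivedCategory.obj M).IsGE a) : M.IsGE a :=
  (DerivedCategory.isGE_iff M a).2 fun i hi => IsZero.of_full_of_faithful_of_isZero F _
    (((DerivedCategory.isGE_iff _ a).1 h i hi).of_iso (exists_homology_iso F M i).some.symm)

end General

variable (X : Scheme.{u}) [IsNoetherian X]
  [ObjectProperty.ContainsZero (qcP X)] [ObjectProperty.IsClosedUnderKernels (qcP X)]
  [ObjectProperty.IsClosedUnderCokernels (qcP X)] [ObjectProperty.IsClosedUnderFiniteProducts (qcP X)]
  [ObjectProperty.ContainsZero (cohP X)] [ObjectProperty.IsClosedUnderKernels (cohP X)]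
  [ObjectProperty.IsClosedUnderCokernels (cohP X)] [ObjectProperty.IsClosedUnderFiniteProducts (cohP X)]
  [PreservesFiniteLimits (toQc X)] [PreservesFiniteColimits (toQc X)]

theorem minus_equiv :
    (∀ (M N : DerivedCategory (cohP X).FullSubcategory) (b : ℤ), M.IsLE b → N.IsLE b →
      Function.Bijective (fun φ : M ⟶ N => (toQc X).mapDerivedCategory.map φ)) ∧
    ∀ (K : DerivedCategory (qcP X).FullSubcategory) (b : ℤ), K.IsLE b →
      (∀ i : ℤ, Coh.IsCoh ((DerivedCategory.homologyFunctor (qcP X).FullSubcategory i).obj K).obj) →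
      ∃ M : DerivedCategory (cohP X).FullSubcategory, M.IsLE b ∧
        Nonempty ((toQc X).mapDerivedCategory.obj M ≅ K) := by
  haveI := isSerreClass (X := X)
  refine ⟨fun M N b hM _ => ?_, fun K b hK h => ?_⟩
  · exact MinusFun.bijective (P := cohQ X) (G := toQc X) liftable (fun x => x.property)
      exists_toQc M N b
  · exact MinusFun.essImage (P := cohQ X) (G := toQc X) liftable exists_toQc K b h

section Bounded

theorem bounded_equiv (X : Scheme.{u}) [IsNoetherian X]
    [ObjectProperty.ContainsZero (cohP X)] [ObjectProperty.IsClosedUnderKernels (cohP X)]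
    [ObjectProperty.IsClosedUnderCokernels (cohP X)] [ObjectProperty.IsClosedUnderFiniteProducts (cohP X)]
    [PreservesFiniteLimits (cohP X).ι] [PreservesFiniteColimits (cohP X).ι] :
    (∀ (M N : DerivedCategory (cohP X).FullSubcategory) (a b : ℤ), M.IsGE a → M.IsLE b → N.IsGE a → N.IsLE b →
      Function.Bijective (fun φ : M ⟶ N => (cohP X).ι.mapDerivedCategory.map φ)) ∧
    ∀ (K : DCoh.D X) (a b : ℤ), K.IsGE a → K.IsLE b → DCoh.IsCohD K →
      ∃ M : DerivedCategory (cohP X).FullSubcategory, M.IsGE a ∧ M.IsLE b ∧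
        Nonempty ((cohP X).ι.mapDerivedCategory.obj M ≅ K) := by
  haveI : (qcP X).ContainsZero := inferInstanceAs (QCohCat.isQCoh X).ContainsZero
  haveI : (qcP X).IsClosedUnderKernels := inferInstanceAs (QCohCat.isQCoh X).IsClosedUnderKernels
  haveI : (qcP X).IsClosedUnderCokernels := inferInstanceAs (QCohCat.isQCoh X).IsClosedUnderCokernels
  haveI : (qcP X).IsClosedUnderFiniteProducts :=
    inferInstanceAs (QCohCat.isQCoh X).IsClosedUnderFiniteProducts
  haveI := preservesFiniteLimits_ι X
  haveI := preservesFiniteColimits_ι X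
  haveI : PreservesFiniteLimits (toQc X) :=
    ⟨fun J _ _ => by
      haveI : PreservesLimitsOfShape J (toQc X ⋙ (qcP X).ι) :=
        inferInstanceAs (PreservesLimitsOfShape J (cohP X).ι)
      exact preservesLimitsOfShape_of_reflects_of_preserves (toQc X) (qcP X).ι⟩
  haveI : PreservesFiniteColimits (toQc X) :=
    ⟨fun J _ _ => by
      haveI : PreservesColimitsOfShape J (toQc X ⋙ (qcP X).ι) :=
        inferInstanceAs (PreservesColimitsOfShape J (cohP X).ι)
      exact preservesColimitsOfShape_of_reflects_of_preserves (toQc X) (qcP X).ι⟩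
  obtain ⟨hfull, hfaith, hess⟩ := DQCohEquiv.main' X
  obtain ⟨hbij, hes⟩ := minus_equiv X
  haveI := hfull
  haveI := hfaith
  let e := compD (toQc X) (qcP X).ι (cohP X).ι (ObjectProperty.liftCompιIso _ _ _)
  refine ⟨fun M N a b _ hM _ hN => ?_, fun K a b hKa hKb hK => ?_⟩
  · have h : (fun φ : M ⟶ N => (cohP X).ι.mapDerivedCategory.map φ) =
        (Iso.homCongr (e.app M) (e.app N)) ∘ (fun ψ => (qcP X).ι.mapDerivedCategory.map ψ) ∘
          (fun φ => (toQc X).mapDerivedCategory.map φ) := by
      funext φ
      simp only [Function.comp, Iso.homCongr_apply, Iso.app_hom, Iso.app_inv]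
      exact (NatIso.naturality_1 e φ).symm
    rw [h]
    exact (Equiv.bijective _).comp
      (((Functor.FullyFaithful.ofFullyFaithful _).map_bijective _ _).comp (hbij M N b hM hN))
  · obtain ⟨M', ⟨eM'⟩⟩ := (hess K).1 fun i => (hK i).1
    have hM'b : M'.IsLE b := isLE_of_map (qcP X).ι M' b
      ((DerivedCategory.isLE_iff _ b).2 fun i hi =>
        ((DerivedCategory.isLE_iff _ b).1 hKb i hi).of_iso
          ((DerivedCategory.homologyFunctor X.Modules i).mapIso eM'))
    obtain ⟨M, hMb, ⟨eM⟩⟩ := hes M' b hM'b fun i =>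
      Lib.CohBasics.Closure.isCoh_of_iso
        ((DerivedCategory.homologyFunctor X.Modules i).mapIso eM'.symm ≪≫
          (exists_homology_iso (qcP X).ι M' i).some) (hK i)
    let eK : (cohP X).ι.mapDerivedCategory.obj M ≅ K :=
      (e.app M).symm ≪≫ (qcP X).ι.mapDerivedCategory.mapIso eM ≪≫ eM'
    refine ⟨M, isGE_of_map (cohP X).ι M a ((DerivedCategory.isGE_iff _ a).2 fun i hi => ?_), hMb, ⟨eK⟩⟩
    exact ((DerivedCategory.isGE_iff _ a).1 hKa i hi).of_iso
      ((DerivedCategory.homologyFunctor X.Modules i).mapIso eK)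

end Bounded

end Groth.Agent.H83.CohDerived
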