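import Groth.Agent.Lib.SerreSub.Subcomplex
import Mathlib.Algebra.Homology.DerivedCategory.ExactFunctor
import Mathlib.Algebra.Homology.DerivedCategory.Fractions
import Mathlib.Algebra.Homology.DerivedCategory.TStructure
import Mathlib.CategoryTheory.ObjectProperty.FiniteProducts
import Mathlib.CategoryTheory.Abelian.Subcategory

/-!
# The bounded above derived category of a Serre subcategory with liftings, via a functor
-/

set_option linter.unusedSectionVars false

universe w w' v v' u u'

open CategoryTheory CategoryTheory.Limits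

namespace Groth.Agent.H83.CohDerived.MinusFun

open Groth.Agent.Lib.SerreSub Subcomplex DerivedCategory

variable {A : Type u} [Category.{v} A] [Abelian A] {P : ObjectProperty A} [P.IsSerreClass]
  {C : Type u'} [Category.{v'} C] [Abelian C] {G : C ⥤ A} [G.Additive] [G.Full] [G.Faithful]
  [PreservesFiniteLimits G] [PreservesFiniteColimits G]

set_option quotPrecheck false in
local notation "F" => G.mapHomologicalComplex (ComplexShape.up ℤ)

lemma exists_lift (hPG : ∀ Y : A, P Y → ∃ x : C, Nonempty (G.obj x ≅ Y))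
    (K : CochainComplex A ℤ) (hK : ∀ n, P (K.X n)) :
    ∃ K₀ : CochainComplex C ℤ, Nonempty ((F).obj K₀ ≅ K) := by
  choose x hx using fun n => hPG _ (hK n)
  let e : ∀ n, G.obj (x n) ≅ K.X n := fun n => (hx n).some
  let K₀ : CochainComplex C ℤ :=
    { X := x
      d := fun i j => G.preimage ((e i).hom ≫ K.d i j ≫ (e j).inv)
      shape := fun i j h => G.map_injective (by simp [K.shape i j h])
      d_comp_d' := fun i j k _ _ => G.map_injective (by simp) }
  exact ⟨K₀, ⟨HomologicalComplex.Hom.isoOfComponents e (fun i j _ => by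
    change (e i).hom ≫ K.d i j = G.map (K₀.d i j) ≫ (e j).hom
    simp [K₀])⟩⟩

lemma isStrictlyLE_map (M : CochainComplex C ℤ) (b : ℤ) [M.IsStrictlyLE b] :
    CochainComplex.IsStrictlyLE ((F).obj M) b :=
  (CochainComplex.isStrictlyLE_iff _ _).2 fun i hi =>
    G.map_isZero (X := M.X i) (M.isZero_of_isStrictlyLE b i hi)

lemma isStrictlyLE_of_map (M : CochainComplex C ℤ) (b : ℤ)
    (h : CochainComplex.IsStrictlyLE ((F).obj M) b) : M.IsStrictlyLE b :=
  (CochainComplex.isStrictlyLE_iff _ _).2 fun i hi => by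
    have := CochainComplex.isZero_of_isStrictlyLE ((F).obj M) b i hi
    rw [IsZero.iff_id_eq_zero] at this ⊢
    exact G.map_injective (by rw [G.map_id, G.map_zero]; exact this)

lemma prop_homology_map (hG : ∀ x : C, P (G.obj x)) (M : CochainComplex C ℤ) (n : ℤ) :
    P (((F).obj M).homology n) :=
  P.prop_of_iso ((M.sc n).mapHomologyIso G).symm (hG (M.homology n))

/-- Resolve, by terms in `P`, a complex quasi-isomorphic to one with cohomology in `P`. -/
lemma exists_cover (hl : Liftable P) (hPG : ∀ Y : A, P Y → ∃ x : C, Nonempty (G.obj x ≅ Y)) (b : ℤ) (K : CochainComplex A ℤ) [K.IsStrictlyLE b]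
    (hK : ∀ n, P (K.homology n)) :
    ∃ (K₀ : CochainComplex C ℤ) (_ : K₀.IsStrictlyLE b) (i : (F).obj K₀ ⟶ K),
      QuasiIso i := by
  obtain ⟨K', i, hi, hle, hP⟩ := exists_subcomplex K b hl hK
  obtain ⟨K₀, ⟨e⟩⟩ := exists_lift hPG K' hP
  exact ⟨K₀, isStrictlyLE_of_map K₀ b (CochainComplex.isStrictlyLE_of_iso e.symm b), e.hom ≫ i,
    inferInstance⟩

variable [HasDerivedCategory.{w} A] [HasDerivedCategory.{w'} C]

lemma map_Q_map_eq_zero_iff {M N : CochainComplex C ℤ} (g : M ⟶ N) :
    G.mapDerivedCategory.map (Q.map g) = 0 ↔ Q.map ((F).map g) = 0 := by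
  have h := G.mapDerivedCategoryFactors_hom_naturality g
  constructor
  · intro h0
    rw [h0, zero_comp] at h
    rw [← cancel_epi (G.mapDerivedCategoryFactors.hom.app M), ← h, comp_zero]
  · intro h0
    rw [h0, comp_zero] at h
    rw [← cancel_mono (G.mapDerivedCategoryFactors.hom.app N), h, zero_comp]

theorem bijective_Q (hl : Liftable P) (hG : ∀ x : C, P (G.obj x))
    (hPG : ∀ Y : A, P Y → ∃ x : C, Nonempty (G.obj x ≅ Y)) (b : ℤ) (M N : CochainComplex C ℤ)
    [M.IsStrictlyLE b] :
    Function.Bijective (fun φ : Q.obj M ⟶ Q.obj N => G.mapDerivedCategory.map φ) := by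
  refine ⟨(injective_iff_map_eq_zero (G.mapDerivedCategory.mapAddHom
    (X := Q.obj M) (Y := Q.obj N))).2 fun f hf => ?_, fun φ => ?_⟩
  · obtain ⟨M₁, _, s, hs, g, rfl⟩ := right_fac_of_isStrictlyLE f b
    have hg : Q.map ((F).map g) = 0 := by
      rw [← map_Q_map_eq_zero_iff, ← cancel_epi (inv (G.mapDerivedCategory.map (Q.map s))),
        comp_zero]
      change G.mapDerivedCategory.map (inv (Q.map s) ≫ Q.map g) = 0 at hf
      simpa [Functor.map_inv] using hf
    have hg' : DerivedCategory.Qh.map ((HomotopyCategory.quotient A _).map ((F).map g)) =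
        DerivedCategory.Qh.map 0 := by
      rw [Functor.map_zero]
      have := (quotientCompQhIso A).hom.naturality ((F).map g)
      rw [hg, comp_zero] at this
      rw [← cancel_mono ((quotientCompQhIso A).hom.app _), zero_comp]
      exact this
    obtain ⟨X', t, ht, ht'⟩ := (MorphismProperty.map_eq_iff_precomp DerivedCategory.Qh
      (HomotopyCategory.quasiIso A (ComplexShape.up ℤ)) _ _).1 hg'
    obtain ⟨X', rfl⟩ := HomotopyCategory.quotient_obj_surjective X'
    obtain ⟨t, rfl⟩ := (HomotopyCategory.quotient _ _).map_surjective t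
    rw [HomotopyCategory.quotient_map_mem_quasiIso_iff, HomologicalComplex.mem_quasiIso_iff] at ht
    have := isStrictlyLE_map (G := G) M₁ b
    let Y' : CochainComplex A ℤ := X'
    let t' : Y' ⟶ (F).obj M₁ := t
    have ht2 : QuasiIso t' := ht
    have : Y'.IsLE b := (CochainComplex.isLE_iff _ _).2 fun i hi => by
      rw [HomologicalComplex.exactAt_iff_isZero_homology]
      exact (CochainComplex.exactAt_of_isLE ((F).obj M₁) b i hi).isZero_homology.of_iso
        (asIso (HomologicalComplex.homologyMap t' i))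
    obtain ⟨K₀, _, i, hi⟩ := exists_cover hl hPG b (Y'.truncLE b) fun n =>
      P.prop_of_iso (asIso (HomologicalComplex.homologyMap (Y'.ιTruncLE b ≫ t') n)).symm
        (prop_homology_map hG M₁ n)
    let u : K₀ ⟶ M₁ := (F).preimage (i ≫ Y'.ιTruncLE b ≫ t')
    have hu : QuasiIso u := by
      rw [← HomologicalComplex.quasiIso_map_iff_of_preservesHomology u G, Functor.map_preimage]
      infer_instance
    have h0 : (HomotopyCategory.quotient C _).map (u ≫ g) = 0 := by
      rw [← Functor.map_zero (HomotopyCategory.quotient C (ComplexShape.up ℤ))]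
      refine HomotopyCategory.eq_of_homotopy _ _ (G.preimageHomotopy
        (HomotopyCategory.homotopyOfEq _ _ ?_))
      rw [Functor.map_comp, Functor.map_preimage, Category.assoc, Category.assoc, Functor.map_comp,
        Functor.map_comp, Functor.map_comp, ht', comp_zero, comp_zero, comp_zero, Functor.map_zero,
        Functor.map_zero]
    have : IsIso (Q.map u) := (isIso_Q_map_iff_quasiIso _ _).2 hu
    have h1 : Q.map (u ≫ g) = 0 := by
      have := (quotientCompQhIso C).hom.naturality (u ≫ g)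
      dsimp only [Functor.comp_map] at this
      rw [h0, Functor.map_zero, zero_comp] at this
      rw [← cancel_epi ((quotientCompQhIso C).hom.app _), ← this, comp_zero]
    rw [Q.map_comp] at h1
    have : Q.map g = 0 := by rwa [← cancel_epi (Q.map u), comp_zero]
    rw [this, comp_zero]
  · let e := G.mapDerivedCategoryFactors
    have := isStrictlyLE_map (G := G) M b
    obtain ⟨K, _, s, hs, g, hg⟩ := right_fac_of_isStrictlyLE (e.inv.app M ≫ φ ≫ e.hom.app N) b
    rw [isIso_Q_map_iff_quasiIso] at hs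
    obtain ⟨K₀, _, i, hi⟩ := exists_cover hl hPG b K fun n =>
      P.prop_of_iso (asIso (HomologicalComplex.homologyMap s n)).symm (prop_homology_map hG M n)
    let s₀ : K₀ ⟶ M := (F).preimage (i ≫ s)
    let g₀ : K₀ ⟶ N := (F).preimage (i ≫ g)
    have hs₀ : QuasiIso s₀ := by
      rw [← HomologicalComplex.quasiIso_map_iff_of_preservesHomology s₀ G, Functor.map_preimage]
      infer_instance
    refine ⟨inv (Q.map s₀) ≫ Q.map g₀, ?_⟩
    dsimp only
    rw [Functor.map_comp, Functor.map_inv, IsIso.inv_comp_eq, ← cancel_mono (e.hom.app N),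
      G.mapDerivedCategoryFactors_hom_naturality, Category.assoc]
    have h := G.mapDerivedCategoryFactors_hom_naturality s₀
    rw [Functor.map_preimage] at h
    rw [Functor.map_preimage, ← cancel_epi (e.inv.app K₀)]
    have h' : e.inv.app K₀ ≫ G.mapDerivedCategory.map (Q.map s₀) =
        Q.map (i ≫ s) ≫ e.inv.app M := by
      rw [← cancel_mono (e.hom.app M), Category.assoc, Category.assoc, h]
      simp [e]
    rw [reassoc_of% h', hg]
    simp [e]

theorem bijective (hl : Liftable P) (hG : ∀ x : C, P (G.obj x))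
    (hPG : ∀ Y : A, P Y → ∃ x : C, Nonempty (G.obj x ≅ Y)) (M N : DerivedCategory C) (b : ℤ)
    [M.IsLE b] : Function.Bijective (fun φ : M ⟶ N => G.mapDerivedCategory.map φ) := by
  obtain ⟨M₀, _, ⟨eM⟩⟩ := M.exists_iso_Q_obj_of_isLE b
  let eN := Q.objObjPreimageIso N
  have key : (fun φ : M ⟶ N => G.mapDerivedCategory.map φ) =
      (fun ψ => G.mapDerivedCategory.map eM.hom ≫ ψ ≫ G.mapDerivedCategory.map eN.hom) ∘
      (fun φ : Q.obj M₀ ⟶ Q.obj (Q.objPreimage N) => G.mapDerivedCategory.map φ) ∘
      (fun φ => eM.inv ≫ φ ≫ eN.inv) := by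
    funext φ
    simp [← Functor.map_comp]
  rw [key]
  refine Function.Bijective.comp ?_ ((bijective_Q hl hG hPG b M₀ _).comp ?_)
  · exact ⟨fun x y h => (cancel_mono (G.mapDerivedCategory.map eN.hom)).1
      ((cancel_epi (G.mapDerivedCategory.map eM.hom)).1 h),
      fun ψ => ⟨G.mapDerivedCategory.map eM.inv ≫ ψ ≫ G.mapDerivedCategory.map eN.inv, by simp⟩⟩
  · exact ⟨fun x y h => by simpa using h, fun φ => ⟨eM.hom ≫ φ ≫ eN.hom, by simp⟩⟩

theorem essImage (hl : Liftable P) (hPG : ∀ Y : A, P Y → ∃ x : C, Nonempty (G.obj x ≅ Y)) (K : DerivedCategory A) (b : ℤ) [K.IsLE b]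
    (hK : ∀ n : ℤ, P ((homologyFunctor A n).obj K)) :
    ∃ M : DerivedCategory C, M.IsLE b ∧
      Nonempty (G.mapDerivedCategory.obj M ≅ K) := by
  obtain ⟨K', _, ⟨e⟩⟩ := K.exists_iso_Q_obj_of_isLE b
  obtain ⟨K₀, _, i, hi⟩ := exists_cover hl hPG b K' fun n =>
    P.prop_of_iso ((homologyFunctor A n).mapIso e ≪≫ (homologyFunctorFactors A n).app K') (hK n)
  have : IsIso (Q.map i) := (isIso_Q_map_iff_quasiIso _ _).2 hi
  exact ⟨Q.obj K₀, inferInstance,
    ⟨G.mapDerivedCategoryFactors.app K₀ ≪≫ asIso (Q.map i) ≪≫ e.symm⟩⟩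

end Groth.Agent.H83.CohDerived.MinusFun
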